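import Cfsg.Statements.S1252
import Cfsg.Agent.ClosedRed.Inst
import Cfsg.Agent.S0000

set_option autoImplicit false
open Cfsg

namespace Cfsg.Agent.S1252

/-- Let G be a finite group, S a Sylow 2-subgroup, A ≤ S strongly closed in S such that A has even index in its normal closure K = ⟨A^G⟩, and such that for every nontrivial normal subgroup N of G the index of A ∩ N in N is even (A ∩ N is not a Sylow 2-subgroup of N). Then A ≠ 1 and K is the internal direct product of finitely many subgroups L₁, …, L_r (pairwise commuting, each meeting the join of the others trivially, together generating K), each of which is a simple group isomorphic to PSU(3) over a field with q² elements (q ≥ 4 a power of 2) or having the order of a Suzuki group, and for each i, A ∩ Lᵢ is the centre of some Sylow 2-subgroup of Lᵢ. -/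
theorem result {G : Type*} [Group G] [Finite G] (S : Sylow 2 G) (A : Subgroup G) (hA : Cfsg.IsStronglyClosed A (S : Subgroup G)) (hns : Even (A.relIndex (Subgroup.normalClosure (A : Set G)))) (hO : ∀ N : Subgroup G, N.Normal → N ≠ ⊥ → Even ((A ⊓ N).relIndex N)) : A ≠ ⊥ ∧ ∃ (r : ℕ) (L : Fin r → Subgroup G), (∀ i j, i ≠ j → ∀ a ∈ L i, ∀ b ∈ L j, a * b = b * a) ∧ (∀ i, L i ⊓ (⨆ j ∈ {j | j ≠ i}, L j) = ⊥) ∧ (⨆ i, L i) = Subgroup.normalClosure (A : Set G) ∧ (∀ i, IsSimpleGroup ↥(L i) ∧ ((∃ (F : Type) (_ : Field F) (_ : Fintype F) (q : ℕ), Fintype.card F = q ^ 2 ∧ Even q ∧ 4 ≤ q ∧ Nonempty (↥(L i) ≃* Cfsg.PSU 3 F q)) ∨ Cfsg.IsSuzuki ↥(L i))) ∧ (∀ i, ∃ P : Sylow 2 ↥(L i), (A ⊓ L i) = ((Subgroup.center (P : Subgroup ↥(L i))).map (P : Subgroup ↥(L i)).subtype).map (L i).subtype) := by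
  exact Cfsg.Agent.ClosedRed.Inst.of_classification (fun X _ _ _ => Cfsg.Agent.S0000.result)
    (fun X _ _ _ => Cfsg.Agent.S0000.result) S A hA hns hO

end Cfsg.Agent.S1252
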