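import Cfsg.Statements.S1332
import Cfsg.Agent.BpTab.Final
import Cfsg.Agent.BpTab.Spor
import Cfsg.Agent.S0000

set_option autoImplicit false
open Cfsg

namespace Cfsg.Agent.S1332

/-- Let G be a finite group such that the non-abelian composition factors of every proper subgroup are known simple groups, p a prime and P a p-subgroup of G. Then L_{p'}(N_G(P)) ≤ L_{p'}(G); and if O_{p'}(G) = 1, then L_{p'}(N_G(P)) centralizes O_{p'}(N_G(P)). -/
theorem result {G : Type*} [Group G] [Finite G] (hK : Cfsg.IsCompositionKProper G) (p : ℕ) [Fact p.Prime] (P : Subgroup G) (hP : IsPGroup p ↥P) : (Cfsg.pLayer p ↥(Subgroup.normalizer (P : Set G))).map (Subgroup.normalizer (P : Set G)).subtype ≤ Cfsg.pLayer p G ∧ (Cfsg.pPrimeCore p G = ⊥ → ⁅Cfsg.pLayer p ↥(Subgroup.normalizer (P : Set G)), Cfsg.pPrimeCore p ↥(Subgroup.normalizer (P : Set G))⁆ = ⊥) := by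
  have _ := hK
  exact BpTab.Final.s1332 (BpTab.Spor.pairs fun X _ _ _ => S0000.result) (fun X _ _ _ => S0000.result)
    (fun X _ _ _ => S0000.result) p P hP

end Cfsg.Agent.S1332
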